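import Groth.Agent.AVIsog3.Basic
import Groth.Agent.H23.MaxAbelian
import Groth.Prelude.Def_EndRing

/-!
Nonzero endomorphisms of simple abelian varieties are isogenies and hence invertible up to isogeny.
-/

set_option linter.style.haveILetI false
set_option linter.unusedSectionVars false
set_option backward.isDefEq.respectTransparency false
set_option backward.isDefEq.respectTransparency.types false

universe u

open CategoryTheory CategoryTheory.Limits MonoidalCategory CartesianMonoidalCategory MonObj GrpObj AlgebraicGeometry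
open scoped TensorProduct

namespace Groth.Agent.AVIsog3

/-- Every rational multiple of a module element can be written with denominator one positive integer. -/
theorem exists_eq_smul {M : Type*} [AddCommGroup M] (x : ℚ ⊗[ℤ] M) :
    ∃ (m : ℕ) (y : M), 0 < m ∧ x = (m : ℚ)⁻¹ ⊗ₜ[ℤ] y := by
  induction x using TensorProduct.induction_on with
  | zero => exact ⟨1, 0, one_pos, by simp⟩
  | tmul q y =>
    refine ⟨q.den, q.num • y, q.den_pos, ?_⟩
    rw [← TensorProduct.smul_tmul, zsmul_eq_mul, ← div_eq_mul_inv, Rat.num_div_den]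
  | add a b ha hb =>
    obtain ⟨m, y, hm, rfl⟩ := ha
    obtain ⟨l, z, hl, rfl⟩ := hb
    refine ⟨m * l, (l : ℤ) • y + (m : ℤ) • z, Nat.mul_pos hm hl, ?_⟩
    have hm' : (m : ℚ) ≠ 0 := by positivity
    have hl' : (l : ℚ) ≠ 0 := by positivity
    rw [TensorProduct.tmul_add, ← TensorProduct.smul_tmul, ← TensorProduct.smul_tmul, zsmul_eq_mul, zsmul_eq_mul]
    push_cast
    congr 2 <;> field_simp

variable {k : Type u} [Field k] {A B : Over (Spec (CommRingCat.of k))}
  [GrpObj A] [IsCommMonObj A] [IsProper A.hom] [GeometricallyIntegral A.hom]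
  [GrpObj B] [IsCommMonObj B] [IsProper B.hom] [GeometricallyIntegral B.hom]

/-- Every homomorphism factors as a surjection onto an abelian subvariety of the target. -/
theorem exists_image_factor (f : A ⟶ B) [IsMonHom f] :
    ∃ (N : Over (Spec (CommRingCat.of k))) (_ : GrpObj N) (_ : IsProper N.hom) (_ : GeometricallyIntegral N.hom)
      (j : N ⟶ B) (q : A ⟶ N), IsMonHom j ∧ IsClosedImmersion j.left ∧ IsMonHom q ∧ Surjective q.left ∧ q ≫ j = f := by
  obtain ⟨N, hN, j, hj, hjc, hNp, hNi, hr⟩ := H23.MaxAbelian.exists_image f ⟨η[A], IsMonHom.one_hom f⟩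
    ⟨μ[A], by rw [IsMonHom.mul_hom f, Hom.mul_def, CartesianMonoidalCategory.lift_fst_comp_snd_comp]⟩
    ⟨(𝟙 A)⁻¹, by rw [GrpObj.inv_comp, Category.id_comp]⟩
  haveI := isIntegral_left A
  obtain ⟨q, hq⟩ := H23.RedSub.exists_lift_closed f.left j.left hr.ge
  have hw : q ≫ N.hom = A.hom := by rw [← Over.w j, reassoc_of% hq, Over.w f]
  let q' : A ⟶ N := Over.homMk q hw
  have hq' : q' ≫ j = f := Over.OverMorphism.ext hq
  haveI : Mono j := by
    haveI : Mono j.left := inferInstance
    exact Over.mono_of_mono_left j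
  haveI : IsMonHom q' := GrpSchLib.RigidHom.isMonHom_of_one q' (by
    rw [← cancel_mono j, Category.assoc, hq', IsMonHom.one_hom f, MonObj.one_comp, ← MonObj.one_eq_one])
  refine ⟨N, hN, hNp, hNi, j, q', hj, hjc, ‹_›, ⟨fun y => ?_⟩, hq'⟩
  obtain ⟨x, hx⟩ := hr.le ⟨y, rfl⟩
  exact ⟨x, j.left.isClosedEmbedding.injective (by rw [← Scheme.Hom.comp_apply]; exact (congrArg (fun g => g x) hq).trans hx)⟩

/-- A nonzero homomorphism into a simple abelian variety is surjective. -/
theorem surjective_of_simple (f : A ⟶ B) [IsMonHom f] (hf : f ≠ 1)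
    (hsimple : ∀ (N : Over (Spec (CommRingCat.of k))) [GrpObj N] [GeometricallyIntegral N.hom] (i : N ⟶ B) [IsMonHom i]
      [IsClosedImmersion i.left], Subsingleton N.left ∨ IsIso i) : Surjective f.left := by
  obtain ⟨N, _, _, _, j, q, _, _, _, hq, rfl⟩ := exists_image_factor f
  rcases hsimple N j with h | h
  · refine absurd ?_ hf
    haveI := isIntegral_left A
    refine eq_one_of_range _ ?_
    rintro _ ⟨x, rfl⟩
    refine ⟨IsLocalRing.closedPoint k, ?_⟩
    rw [← IsMonHom.one_hom j, Over.comp_left, Over.comp_left, Scheme.Hom.comp_apply, Scheme.Hom.comp_apply]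
    exact congrArg j.left (Subsingleton.elim _ _)
  · haveI : IsIso j.left := inferInstanceAs (IsIso ((Over.forget _).map j))
    rw [Over.comp_left]
    infer_instance

/-- Isogenies are invertible in the rational endomorphism algebra. -/
theorem isUnit_toEnd0 (φ : EndAV.End A) [IsFinite φ.toHom.left] [Surjective φ.toHom.left] :
    IsUnit (EndAV.toEnd0 φ) := by
  obtain ⟨n, g, hn, _, h1, h2⟩ := exists_quasiInverse φ.toHom
  have hu : IsUnit ((n : EndAV.End0 A)) := by
    rw [← map_natCast (algebraMap ℚ (EndAV.End0 A))]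
    exact (IsUnit.mk0 _ (Nat.cast_ne_zero.2 hn.ne')).map _
  have e1 : φ * EndAV.End.of g = (n : EndAV.End A) := EndAV.End.ext (by rw [EndAV.End.toHom_natCast]; exact h2)
  have e2 : EndAV.End.of g * φ = (n : EndAV.End A) := EndAV.End.ext (by rw [EndAV.End.toHom_natCast]; exact h1)
  have c : Commute (EndAV.toEnd0 φ) (EndAV.toEnd0 (EndAV.End.of g)) := by
    show _ = _
    rw [← map_mul, ← map_mul, e1, e2]
  refine (c.isUnit_mul_iff.1 ?_).1
  rw [← map_mul, e1, map_natCast]
  exact hu

theorem isUnit_of_simple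
    (hsimple : ∀ (N : Over (Spec (CommRingCat.of k))) [GrpObj N] [GeometricallyIntegral N.hom] (i : N ⟶ A) [IsMonHom i]
      [IsClosedImmersion i.left], Subsingleton N.left ∨ IsIso i) (x : EndAV.End0 A) (hx : x ≠ 0) : IsUnit x := by
  obtain ⟨m, φ, hm, rfl⟩ := exists_eq_smul x
  have hφ : φ.toHom ≠ 1 := fun h => hx (by
    rw [show φ = 0 from EndAV.End.ext h, TensorProduct.tmul_zero])
  haveI := surjective_of_simple φ.toHom hφ hsimple
  haveI := isFinite_of_surjective φ.toHom rfl
  rw [show (m : ℚ)⁻¹ ⊗ₜ[ℤ] φ = algebraMap ℚ (EndAV.End0 A) (m : ℚ)⁻¹ * EndAV.toEnd0 φ by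
    rw [EndAV.toEnd0_apply, Algebra.TensorProduct.algebraMap_apply, Algebra.TensorProduct.tmul_mul_tmul,
      _root_.one_mul, _root_.mul_one]; rfl]
  exact ((IsUnit.mk0 _ (by positivity)).map _).mul (isUnit_toEnd0 φ)

end Groth.Agent.AVIsog3
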