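import Groth.Agent.AVIsog3.Desc
import Groth.Agent.GrpSchLib.RigidHom
import Groth.Agent.H23.Isogeny
import Groth.Agent.H23.RedSub
import Groth.Agent.S19572
import Groth.Agent.S4717
import Groth.Agent.S12442

/-!
Isogenies of abelian varieties over a field: finite surjective homomorphisms have inverses up to
multiplication by their degree.
-/

set_option linter.style.haveILetI false
set_option linter.unusedSectionVars false
set_option backward.isDefEq.respectTransparency false
set_option backward.isDefEq.respectTransparency.types false

universe u

open CategoryTheory CategoryTheory.Limits MonoidalCategory CartesianMonoidalCategory MonObj GrpObj AlgebraicGeometry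

namespace Groth.Agent.AVIsog3

variable {k : Type u} [Field k] {A B : Over (Spec (CommRingCat.of k))}
  [GrpObj A] [IsProper A.hom] [GeometricallyIntegral A.hom]
  [GrpObj B] [IsProper B.hom] [GeometricallyIntegral B.hom]

theorem isIntegral_left (A : Over (Spec (CommRingCat.of k))) [GeometricallyIntegral A.hom] : IsIntegral A.left :=
  GeometricallyIntegral.isIntegral_of_subsingleton A.hom

theorem isProper_left (f : A ⟶ B) : IsProper f.left := by
  haveI : IsProper (f.left ≫ B.hom) := by rw [Over.w f]; infer_instance
  exact IsProper.of_comp f.left B.hom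

theorem dim_eq_of_isFinite_surjective (f : A ⟶ B) [IsFinite f.left] [Surjective f.left] :
    topologicalKrullDim A.left = topologicalKrullDim B.left := by
  haveI : IsLocallyNoetherian A.left := LocallyOfFiniteType.isLocallyNoetherian A.hom
  haveI : IsLocallyNoetherian B.left := LocallyOfFiniteType.isLocallyNoetherian B.hom
  exact (S4717.result f.left).2 f.left.surjective

theorem flat_of_surjective (f : A ⟶ B) [IsMonHom f] [Surjective f.left] : Flat f.left := by
  haveI := isIntegral_left A
  haveI := isIntegral_left B
  haveI := isProper_left f
  exact GrpSchLib.flat_of_surjective_hom f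

theorem lfp_left (f : A ⟶ B) : LocallyOfFinitePresentation f.left := by
  haveI : IsLocallyNoetherian A.left := LocallyOfFiniteType.isLocallyNoetherian A.hom
  haveI : LocallyOfFinitePresentation A.hom := by infer_instance
  haveI : LocallyOfFinitePresentation (f.left ≫ B.hom) := by rw [Over.w]; infer_instance
  exact S12442.locallyOfFinitePresentation_of_comp f.left B.hom

/-- The degree of a finite surjective homomorphism is positive. -/
theorem finrank_pos (f : A ⟶ B) [IsMonHom f] [IsFinite f.left] [Surjective f.left] (b : B.left) :
    0 < f.left.finrank b := by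
  haveI := flat_of_surjective f
  haveI := lfp_left f
  obtain ⟨a, rfl⟩ := f.left.surjective b
  exact Scheme.Hom.one_le_finrank_map f.left a

/-- A finite surjective homomorphism of abelian varieties has an inverse up to multiplication by a
positive integer. -/
theorem exists_quasiInverse (f : A ⟶ B) [IsMonHom f] [IsFinite f.left] [Surjective f.left] :
    ∃ (n : ℕ) (g : B ⟶ A), 0 < n ∧ IsMonHom g ∧ f ≫ g = (𝟙 A) ^ n ∧ g ≫ f = (𝟙 B) ^ n := by
  haveI := isCommMonObj_of_isProper_of_geometricallyIntegral A
  haveI := flat_of_surjective f
  let n := f.left.finrank (η[B].left (IsLocalRing.closedPoint k))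
  obtain ⟨g, hg⟩ := exists_desc f ((𝟙 A) ^ n : A ⟶ A) fun a b h => by
    simp only [MonObj.comp_pow, Category.comp_id]
    exact pow_finrank_eq_of_comp_eq f a b h
  haveI : IsMonHom g := GrpSchLib.RigidHom.isMonHom_of_one g (by
    rw [← IsMonHom.one_hom f, Category.assoc, hg, MonObj.comp_pow, Category.comp_id, MonObj.one_eq_one,
      one_pow])
  refine ⟨n, g, finrank_pos f _, ‹_›, hg, ?_⟩
  haveI := isIntegral_left B
  have e : f ≫ g ≫ f = f ≫ (𝟙 B) ^ n := by
    rw [← Category.assoc, hg, MonObj.pow_comp, Category.id_comp, MonObj.comp_pow, Category.comp_id]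
  exact Over.OverMorphism.ext (ext_of_isDominant_of_isSeparated B.hom ((Over.w _).trans (Over.w _).symm) f.left
    (by simpa using congrArg CommaMorphism.left e))

/-- A morphism whose image is the unit is trivial. -/
theorem eq_one_of_range {T : Over (Spec (CommRingCat.of k))} [IsReduced T.left] (f : T ⟶ B)
    (h : Set.range f.left ⊆ Set.range η[B].left) : f = 1 := by
  haveI : IsClosedImmersion η[B].left := isClosedImmersion_of_comp_eq_id (Y := Spec (CommRingCat.of k)) B.hom
    η[B].left (Over.w η[B])
  obtain ⟨g, hg⟩ := H23.RedSub.exists_lift_closed f.left η[B].left h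
  have : g = T.hom := by
    have hw : g ≫ η[B].left ≫ B.hom = T.hom := by rw [reassoc_of% hg, Over.w f]
    rw [Over.w η[B]] at hw
    exact ((Category.comp_id g).symm.trans hw)
  refine Over.OverMorphism.ext ?_
  rw [← hg, this]
  rfl

theorem surjective_of_isFinite (f : A ⟶ B) [IsFinite f.left]
    (h : topologicalKrullDim A.left = topologicalKrullDim B.left) : Surjective f.left := by
  haveI := isIntegral_left A
  haveI := isIntegral_left B
  exact H23.Isogeny.surjective_of_isFinite A.hom B.hom f.left (Over.w f) h

theorem isFinite_of_surjective (f : A ⟶ B) [IsMonHom f] [Surjective f.left]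
    (h : topologicalKrullDim A.left = topologicalKrullDim B.left) : IsFinite f.left :=
  (S19572.result k A B f h).1

end Groth.Agent.AVIsog3
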