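import Groth.Prelude.Def_AlgGrp
import Groth.Agent.GrpSchLib.KernelGrp
import Groth.Agent.GrpSchLib.HomFlat
import Groth.Agent.S7782
import Mathlib.AlgebraicGeometry.Sites.Fpqc
import Mathlib.AlgebraicGeometry.Group.Abelian

/-!
Morphisms out of the source of a flat cover which only depend on the image descend; a finite flat
homomorphism kills nothing that is not killed by its degree.
-/

set_option linter.style.haveILetI false

universe u

open CategoryTheory CategoryTheory.Limits MonoidalCategory CartesianMonoidalCategory MonObj GrpObj AlgebraicGeometry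

namespace Groth.Agent.AVIsog3

/-- Descent along a flat cover of schemes over a base. -/
theorem exists_desc {S : Scheme.{u}} {A B C : Over S} (f : A ⟶ B) [Flat f.left] [Surjective f.left]
    [QuasiCompact f.left] (h : A ⟶ C)
    (H : ∀ {T : Over S} (a b : T ⟶ A), a ≫ f = b ≫ f → a ≫ h = b ≫ h) : ∃ g : B ⟶ C, f ≫ g = h := by
  have H' : ∀ {Z : Scheme.{u}} (g₁ g₂ : Z ⟶ A.left), g₁ ≫ f.left = g₂ ≫ f.left → g₁ ≫ h.left = g₂ ≫ h.left := by
    intro Z g₁ g₂ e
    let a : Over.mk (g₁ ≫ A.hom) ⟶ A := Over.homMk g₁ rfl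
    let b : Over.mk (g₁ ≫ A.hom) ⟶ A := Over.homMk g₂ (by
      show g₂ ≫ A.hom = g₁ ≫ A.hom
      rw [← Over.w f, reassoc_of% e])
    exact congrArg CommaMorphism.left (H a b (Over.OverMorphism.ext e))
  let g := EffectiveEpi.desc f.left h.left H'
  have hg : f.left ≫ g = h.left := EffectiveEpi.fac f.left h.left H'
  have hw : g ≫ C.hom = B.hom := by
    rw [← cancel_epi f.left, reassoc_of% hg, Over.w h, Over.w f]
  exact ⟨Over.homMk g hw, Over.OverMorphism.ext hg⟩

/-- Composition with a homomorphism commutes with powers. -/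
theorem zpow_comp {C : Type*} [Category C] [CartesianMonoidalCategory C] {T A B : C} [GrpObj A] [GrpObj B]
    (f : A ⟶ B) [IsMonHom f] (x : T ⟶ A) (d : ℤ) : (x ^ d) ≫ f = (x ≫ f) ^ d :=
  map_zpow (MonoidHom.mk' (fun x : T ⟶ A => x ≫ f) fun a b => MonObj.mul_comp a b f) x d

theorem comp_zpow {C : Type*} [Category C] [CartesianMonoidalCategory C] {T T' A : C} [GrpObj A]
    (f : T' ⟶ T) (x : T ⟶ A) (d : ℤ) : f ≫ (x ^ d) = (f ≫ x) ^ d :=
  map_zpow (MonoidHom.mk' (fun x : T ⟶ A => f ≫ x) fun a b => MonObj.comp_mul f a b) x d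

variable {k : Type u} [Field k]

/-- Points with the same image under a finite homomorphism differ by an element killed by the rank at the unit. -/
theorem pow_finrank_eq_of_comp_eq {A B : Over (Spec (CommRingCat.of k))} [GrpObj A] [IsCommMonObj A] [GrpObj B]
    [IsSeparated B.hom] [LocallyOfFiniteType A.hom] (f : A ⟶ B) [IsMonHom f] [IsFinite f.left] [Flat f.left]
    {T : Over (Spec (CommRingCat.of k))} (a b : T ⟶ A) (h : a ≫ f = b ≫ f) :
    a ^ f.left.finrank (η[B].left (IsLocalRing.closedPoint k)) =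
      b ^ f.left.finrank (η[B].left (IsLocalRing.closedPoint k)) := by
  obtain ⟨N, _, i, hi, _, _, hk⟩ := GrpSchLib.exists_kernel f
  have hmono : Mono i := ⟨fun a b hab => hk.hom_ext hab (toUnit_unique _ _)⟩
  haveI : IsCommMonObj N := ⟨by
    rw [← cancel_mono i, Category.assoc, IsMonHom.mul_hom, ← Category.assoc, ← BraidedCategory.braiding_naturality,
      Category.assoc, IsCommMonObj.mul_comm]⟩
  have hp : IsPullback i.left N.hom f.left η[B].left := by
    have h' : IsPullback i.left (toUnit N).left f.left (η[B]).left := hk.map (Over.forget _)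
    exact (show (toUnit N).left = N.hom from rfl) ▸ h'
  haveI : IsFinite N.hom := MorphismProperty.of_isPullback hp ‹IsFinite f.left›
  haveI : Flat N.hom := MorphismProperty.of_isPullback hp ‹Flat f.left›
  haveI : IsLocallyNoetherian (Spec (CommRingCat.of k)) := inferInstance
  haveI : LocallyOfFinitePresentation N.hom := inferInstance
  have hr : ∀ s, N.hom.finrank s = f.left.finrank (η[B].left (IsLocalRing.closedPoint k)) := fun s => by
    refine (Scheme.Hom.finrank_of_isPullback i.left N.hom f.left η[B].left hp s).trans ?_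
    exact congrArg (fun y => f.left.finrank (η[B].left y))
      (@Subsingleton.elim (Spec (CommRingCat.of k)) inferInstance s (IsLocalRing.closedPoint k))
  have hab : (a * b⁻¹) ≫ f = 1 := by
    rw [MonObj.mul_comp, GrpObj.inv_comp, h, mul_inv_cancel]
  obtain ⟨n, hn⟩ : ∃ n : T ⟶ N, n ≫ i = a * b⁻¹ :=
    ⟨hk.lift _ (toUnit _) hab, hk.lift_fst _ _ _⟩
  have := congrArg (fun x => x ≫ i) (S7782.result N _ hr T n)
  simp only [MonObj.pow_comp, hn, MonObj.one_comp, mul_pow, inv_pow] at this
  exact mul_inv_eq_one.1 this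

end Groth.Agent.AVIsog3
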